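import Groth.Agent.Lib.MultType.QuasiIso
import Groth.Agent.Lib.MultType.QuotLift
import Groth.Agent.Lib.MultType.Split
import Mathlib.FieldTheory.Galois.Basic
import Mathlib.RingTheory.Bialgebra.MonoidAlgebra

/-!
# Tori over a field split by a finite Galois extension: characters, Galois action, descent of cocharacters
-/

set_option autoImplicit false
set_option maxSynthPendingDepth 3

universe u

open TensorProduct WithConv MonoidAlgebra

noncomputable section

namespace Groth.Agent.TorusField29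

/-- The free group of rank `n`, written multiplicatively. -/
abbrev Lat (n : ℕ) : Type u := ULift.{u} (Multiplicative (Fin n → ℤ))

variable {K : Type u} [Field K] {A : Type u} [CommRing A] [HopfAlgebra K A] {n : ℕ}

/-- A group algebra isomorphism over a field gives an isomorphism of the groups. -/
theorem nonempty_mulEquiv_of_bialgEquiv {Ω : Type u} [Field Ω] {M N : Type u} [CommGroup M] [CommGroup N]
    (e : MonoidAlgebra Ω M ≃ₐc[Ω] MonoidAlgebra Ω N) : Nonempty (M ≃* N) := by
  refine ⟨MonoidHom.toMulEquiv (mapDomainOfBialgHom (e : MonoidAlgebra Ω M →ₐc[Ω] MonoidAlgebra Ω N))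
    (mapDomainOfBialgHom (e.symm : MonoidAlgebra Ω N →ₐc[Ω] MonoidAlgebra Ω M)) ?_ ?_⟩ <;>
  · refine MonoidHom.ext fun g => single_left_injective (R := Ω) one_ne_zero ?_
    simp

/-- A torus split by some field extension is split by a finite Galois extension. -/
theorem exists_galois_split {L₀ : Type u} [Field L₀] [Algebra K L₀]
    (E₀ : L₀ ⊗[K] A ≃ₐc[L₀] MonoidAlgebra L₀ (Lat.{u} n)) :
    ∃ (L : Type u) (_ : Field L) (_ : Algebra K L), IsGalois K L ∧ FiniteDimensional K L ∧
      Nonempty (L ⊗[K] A ≃ₐc[L] MonoidAlgebra L (Lat.{u} n)) := by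
  haveI hMfg : Group.FG (Lat.{u} n) := Group.fg_of_surjective
    (f := (MulEquiv.ulift : Lat.{u} n ≃* Multiplicative (Fin n → ℤ)).symm.toMonoidHom)
    (MulEquiv.ulift : Lat.{u} n ≃* Multiplicative (Fin n → ℤ)).symm.surjective
  haveI : Monoid.FG (Lat.{u} n) := Group.fg_iff_monoid_fg.1 hMfg
  haveI hft : Algebra.FiniteType K A := by
    haveI : Algebra.FiniteType L₀ (L₀ ⊗[K] A) :=
      Algebra.FiniteType.equiv (inferInstanceAs (Algebra.FiniteType L₀ (MonoidAlgebra L₀ (Lat.{u} n))))
        E₀.toAlgEquiv.symm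
    exact Algebra.FiniteType.of_finiteType_tensorProduct_of_faithfullyFlat L₀
  have hc : SGA3b.IsMultTypeConst K A :=
    ⟨L₀, inferInstance, inferInstance, inferInstance, Lat.{u} n, inferInstance, ⟨E₀⟩⟩
  obtain ⟨L₁, _, _, _, _, M, _, -, ⟨e₁⟩⟩ :=
    MultTypeLib.exists_separable_isDiag (k := K) (C := A) hft (MultTypeLib.isMultType_of_const hc)
  -- a normal closure
  let Ks := SeparableClosure K
  let φ : L₁ →ₐ[K] Ks := IsSepClosed.lift
  let L := IntermediateField.normalClosure K φ.fieldRange Ks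
  haveI : FiniteDimensional K φ.fieldRange := φ.toLinearMap.finiteDimensional_range
  haveI : IsGalois K L := inferInstance
  haveI : FiniteDimensional K L := inferInstance
  let ψ : L₁ →ₐ[K] L :=
    (IntermediateField.inclusion φ.fieldRange.le_normalClosure).comp φ.rangeRestrict
  obtain ⟨e, -⟩ := MultTypeLib.exists_diag_map ψ e₁
  -- compare the groups over a common extension
  obtain ⟨m, hm⟩ := Ideal.exists_maximal (L ⊗[K] L₀)
  let Ω := (L ⊗[K] L₀) ⧸ m
  letI : Field Ω := Ideal.Quotient.field m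
  let a : L →ₐ[K] Ω := (Ideal.Quotient.mkₐ K m).comp Algebra.TensorProduct.includeLeft
  let b : L₀ →ₐ[K] Ω := (Ideal.Quotient.mkₐ K m).comp Algebra.TensorProduct.includeRight
  obtain ⟨ea, -⟩ := MultTypeLib.exists_diag_map a e
  obtain ⟨eb, -⟩ := MultTypeLib.exists_diag_map b E₀
  obtain ⟨θ⟩ := nonempty_mulEquiv_of_bialgEquiv (ea.symm.trans eb)
  exact ⟨L, inferInstance, inferInstance, inferInstance, inferInstance,
    ⟨e.trans (MonoidAlgebra.domCongrBialgEquiv L L θ)⟩⟩

variable {L : Type u} [Field L] [Algebra K L] (E : L ⊗[K] A ≃ₐc[L] MonoidAlgebra L (Lat.{u} n))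

/-- The group-like element of a lattice element. -/
def gl : Lat.{u} n →* GroupLike L (L ⊗[K] A) := MultTypeLib.diagGlike E

/-- A lattice element for a group-like element. -/
theorem exists_gl (z : GroupLike L (L ⊗[K] A)) : ∃ m, gl E m = z := by
  obtain ⟨m, hm⟩ := isGroupLikeElem_iff_mem_range_single_one.1 (z.2.map E)
  refine ⟨m, GroupLike.ext ?_⟩
  show E.symm (single m 1) = z.val
  rw [show single m (1 : L) = E z.val from hm, BialgEquiv.symm_apply_apply]

theorem gl_injective : Function.Injective (gl E) := fun a b h => by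
  have h1 : E.symm (single a 1) = E.symm (single b 1) := congrArg GroupLike.val h
  exact single_left_injective (R := L) one_ne_zero (E.symm.injective h1)

/-- Lattice elements and group-like elements. -/
def glEquiv : Lat.{u} n ≃* GroupLike L (L ⊗[K] A) :=
  MulEquiv.ofBijective (gl E) ⟨gl_injective E, exists_gl E⟩

/-- The Galois action on the lattice. -/
def act (σ : L ≃ₐ[K] L) : Lat.{u} n →* Lat.{u} n :=
  ((glEquiv E).symm.toMonoidHom.comp (MultTypeLib.glHom σ.toAlgHom)).comp (glEquiv E).toMonoidHom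

theorem gl_act (σ : L ≃ₐ[K] L) (m : Lat.{u} n) :
    (gl E (act E σ m)).val = Algebra.TensorProduct.map σ.toAlgHom (AlgHom.id K A) (gl E m).val := by
  show (glEquiv E ((glEquiv E).symm _)).val = _
  rw [MulEquiv.apply_symm_apply]
  rfl

theorem act_mul (σ τ : L ≃ₐ[K] L) (m : Lat.{u} n) : act E (σ * τ) m = act E σ (act E τ m) := by
  apply gl_injective E
  refine GroupLike.ext ?_
  rw [gl_act, gl_act, gl_act, ← AlgHom.comp_apply, ← Algebra.TensorProduct.map_comp]
  rfl

theorem act_one (m : Lat.{u} n) : act E 1 m = m := by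
  apply gl_injective E
  refine GroupLike.ext ?_
  rw [gl_act]
  exact DFunLike.congr_fun (Algebra.TensorProduct.map_id (R := K) (S := K) (A := L) (B := A)) (gl E m).val

/-- The Galois action on the lattice, additively. -/
def actLin : (L ≃ₐ[K] L) →* Module.End ℤ (Fin n → ℤ) where
  toFun σ := (AddMonoidHom.mk' (fun v => Multiplicative.toAdd (act E σ ⟨Multiplicative.ofAdd v⟩).down)
    fun v w => by
      rw [show (⟨Multiplicative.ofAdd (v + w)⟩ : Lat.{u} n) = ⟨Multiplicative.ofAdd v⟩ * ⟨Multiplicative.ofAdd w⟩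
        from rfl, map_mul]
      rfl).toIntLinearMap
  map_one' := LinearMap.ext fun v => by
    show Multiplicative.toAdd (act E 1 ⟨Multiplicative.ofAdd v⟩).down = v
    rw [act_one]
    rfl
  map_mul' σ τ := LinearMap.ext fun v => by
    show Multiplicative.toAdd (act E (σ * τ) ⟨Multiplicative.ofAdd v⟩).down = _
    rw [act_mul]
    rfl

/-- The image of the Galois group in `GLₙ(ℤ)`. -/
def rho : (L ≃ₐ[K] L) →* Matrix.GeneralLinearGroup (Fin n) ℤ :=
  (Units.map (LinearMap.toMatrixAlgEquiv' : Module.End ℤ (Fin n → ℤ) ≃ₐ[ℤ] _).toMonoidHom).comp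
    (actLin E).toHomUnits

theorem rho_mulVec (σ : L ≃ₐ[K] L) (v : Fin n → ℤ) :
    (rho E σ : Matrix (Fin n) (Fin n) ℤ).mulVec v = actLin E σ v := by
  show (LinearMap.toMatrix' (actLin E σ)).mulVec v = _
  rw [LinearMap.toMatrix'_mulVec]

/-- The character values of a point. -/
def chi (x : WithConv (A →ₐ[K] K)) : Lat.{u} n →* L where
  toFun m := Algebra.TensorProduct.lift (AlgHom.id L L) ((Algebra.ofId K L).comp x.ofConv)
    (fun _ _ => Commute.all _ _) (gl E m).val
  map_one' := by rw [map_one]; exact map_one _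
  map_mul' a b := by rw [map_mul]; exact map_mul _ _ _

theorem chi_apply (x : WithConv (A →ₐ[K] K)) (m : Lat.{u} n) :
    chi E x m = Algebra.TensorProduct.lift (AlgHom.id L L) ((Algebra.ofId K L).comp x.ofConv)
      (fun _ _ => Commute.all _ _) (gl E m).val := rfl

theorem chi_act (x : WithConv (A →ₐ[K] K)) (σ : L ≃ₐ[K] L) (m : Lat.{u} n) :
    chi E x (act E σ m) = σ (chi E x m) := by
  rw [chi_apply, chi_apply, gl_act]
  generalize (gl E m).val = z
  induction z using TensorProduct.induction_on with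
  | zero => simp
  | tmul c a => simp
  | add y z hy hz => simp only [map_add, hy, hz]

theorem chi_mul (x y : WithConv (A →ₐ[K] K)) (m : Lat.{u} n) : chi E (x * y) m = chi E x m * chi E y m := by
  let f : ∀ w : WithConv (A →ₐ[K] K), L ⊗[K] A →ₐ[L] L := fun w =>
    Algebra.TensorProduct.lift (AlgHom.id L L) ((Algebra.ofId K L).comp w.ofConv) (fun _ _ => Commute.all _ _)
  have key : f (x * y) = (toConv (f x) * toConv (f y)).ofConv := by
    refine Algebra.TensorProduct.ext' fun c a => ?_
    have hlin : ∀ g : L ⊗[K] A →ₐ[L] L, g (c ⊗ₜ[K] a) = c * g (1 ⊗ₜ[K] a) := fun g => by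
      rw [show c ⊗ₜ[K] a = c • ((1 : L) ⊗ₜ[K] a) by rw [TensorProduct.smul_tmul', smul_eq_mul, mul_one], map_smul,
        smul_eq_mul]
    rw [hlin, hlin]
    congr 1
    rw [AlgHom.convMul_apply, MultTypeLib.comul_one_tmul]
    have h1 : f (x * y) ((1 : L) ⊗ₜ[K] a) = algebraMap K L ((x * y).ofConv a) := by simp [f]
    rw [h1, AlgHom.convMul_apply]
    generalize Coalgebra.comul (R := K) a = w
    induction w using TensorProduct.induction_on with
    | zero => simp
    | tmul p q => simp [MultTypeLib.inclTwo_tmul, f]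
    | add p q hp hq => simp only [map_add, hp, hq]
  show f (x * y) (gl E m).val = f x (gl E m).val * f y (gl E m).val
  rw [key, AlgHom.convMul_apply, (gl E m).2.comul_eq_tmul_self]
  simp

theorem chi_one (m : Lat.{u} n) : chi E 1 m = 1 := by
  have h : chi E (1 : WithConv (A →ₐ[K] K)) m = chi E 1 m * chi E 1 m := by rw [← chi_mul, mul_one]
  have hne : chi E (1 : WithConv (A →ₐ[K] K)) m ≠ 0 := (((Group.isUnit m).map (chi E 1)).ne_zero)
  exact (mul_eq_left₀ hne).1 h.symm

theorem chi_pow (x : WithConv (A →ₐ[K] K)) (k : ℕ) (m : Lat.{u} n) : chi E (x ^ k) m = chi E x m ^ k := by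
  induction k with
  | zero => rw [pow_zero, pow_zero, chi_one]
  | succ k ih => rw [pow_succ, pow_succ, chi_mul, ih]

theorem chi_ext {x y : WithConv (A →ₐ[K] K)} (h : ∀ m, chi E x m = chi E y m) : x = y := by
  let f : ∀ w : WithConv (A →ₐ[K] K), L ⊗[K] A →ₐ[L] L := fun w =>
    Algebra.TensorProduct.lift (AlgHom.id L L) ((Algebra.ofId K L).comp w.ofConv) (fun _ _ => Commute.all _ _)
  have h1 : (f x).comp E.symm.toAlgEquiv.toAlgHom = (f y).comp E.symm.toAlgEquiv.toAlgHom :=
    MonoidAlgebra.algHom_ext (fun m => h m) (by ext)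
  refine ofConv_injective (AlgHom.ext fun a => (algebraMap K L).injective ?_)
  have h2 := DFunLike.congr_fun h1 (E ((1 : L) ⊗ₜ[K] a))
  simpa [f] using h2

/-- Without invariant functionals on the lattice the orders of the points divide the number of Galois
substitutions of the lattice; the order is prime to the characteristic. -/
theorem exists_invariant_functional [FiniteDimensional K L] (x : WithConv (A →ₐ[K] K)) (hx : IsOfFinOrder x)
    (hroots : ∀ z : L, z ^ orderOf x = 1 → z ∈ Set.range (algebraMap K L))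
    (hbig : ¬ orderOf x ∣ Nat.card (rho E).range) :
    ∃ f : (Fin n → ℤ) →+ ℤ, f ≠ 0 ∧ ∀ σ v, f (actLin E σ v) = f v := by
  classical
  set d := orderOf x with hd
  have hd0 : 0 < d := hx.orderOf_pos
  let X : Lat.{u} n →* Lˣ := (Units.map (MonoidHom.id L)).comp (chi E x).toHomUnits
  have hX : ∀ m, ((X m : Lˣ) : L) = chi E x m := fun m => rfl
  have hXd : ∀ m, X m ^ d = 1 := fun m => Units.ext (by
    rw [Units.val_pow_eq_pow_val, hX, ← chi_pow, pow_orderOf_eq_one, chi_one, Units.val_one])
  have hinv : ∀ σ m, X (act E σ m) = X m := fun σ m => Units.ext (by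
    rw [hX, hX, chi_act]
    obtain ⟨c, hc⟩ := hroots (chi E x m) (by rw [← chi_pow, pow_orderOf_eq_one, chi_one])
    rw [← hc, AlgEquiv.commutes])
  haveI : Finite X.range := by
    haveI : Finite (rootsOfUnity d L) := haveI : NeZero d := ⟨hd0.ne'⟩; inferInstance
    exact Finite.Set.subset (rootsOfUnity d L : Set Lˣ) (by rintro _ ⟨m, rfl⟩; exact hXd m)
  haveI : IsCyclic X.range := subgroup_units_cyclic X.range
  obtain ⟨⟨g, hg⟩, hgen⟩ := IsCyclic.exists_generator (α := X.range)
  have hgen' : ∀ m, ∃ k : ℤ, g ^ k = X m := fun m => by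
    obtain ⟨k, hk⟩ := Subgroup.mem_zpowers_iff.1 (hgen ⟨X m, m, rfl⟩)
    exact ⟨k, congrArg Subtype.val hk⟩
  have hzsum : ∀ {J : Type} (t : Finset J) (φ : J → ℤ), g ^ (∑ j ∈ t, φ j) = ∏ j ∈ t, g ^ φ j := fun {J} t φ => by
    induction t using Finset.induction_on with
    | empty => simp
    | insert a t ha ih => rw [Finset.sum_insert ha, Finset.prod_insert ha, zpow_add, ih]
  choose k₀ hk₀ using fun i : Fin n => hgen' ⟨Multiplicative.ofAdd (Pi.single i 1)⟩
  let f₀ : (Fin n → ℤ) →+ ℤ := AddMonoidHom.mk' (fun v => ∑ i, v i * k₀ i) fun v w => by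
    simp [add_mul, Finset.sum_add_distrib]
  have hf₀ : ∀ v : Fin n → ℤ, g ^ f₀ v = X ⟨Multiplicative.ofAdd v⟩ := by
    intro v
    let φ₁ : (Fin n → ℤ) →+ Additive Lˣ := AddMonoidHom.mk'
      (fun w => Additive.ofMul (X ⟨Multiplicative.ofAdd w⟩)) fun a b => by
        rw [← ofMul_mul, ← map_mul]; rfl
    let φ₂ : (Fin n → ℤ) →+ Additive Lˣ := AddMonoidHom.mk'
      (fun w => Additive.ofMul (g ^ f₀ w)) fun a b => by rw [← ofMul_mul, ← zpow_add, map_add]
    have h12 : φ₁ = φ₂ := by
      refine AddMonoidHom.functions_ext' (Additive Lˣ) φ₁ φ₂ fun i => AddMonoidHom.ext_int ?_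
      show Additive.ofMul (X ⟨Multiplicative.ofAdd (Pi.single i 1)⟩) = Additive.ofMul (g ^ f₀ (Pi.single i 1))
      rw [show f₀ (Pi.single i 1) = k₀ i by simp [f₀, Pi.single_apply], hk₀]
    exact Additive.ofMul.injective (DFunLike.congr_fun h12.symm v)
  let H := (rho E).range
  haveI : Finite H := by
    have : Finite (L ≃ₐ[K] L) := inferInstance
    exact Finite.of_surjective (rho E).rangeRestrict (rho E).rangeRestrict_surjective
  haveI := Fintype.ofFinite H
  let f : (Fin n → ℤ) →+ ℤ := AddMonoidHom.mk'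
    (fun v => ∑ h : H, f₀ ((h.1 : Matrix (Fin n) (Fin n) ℤ).mulVec v))
    fun v w => by simp only [Matrix.mulVec_add, map_add, Finset.sum_add_distrib]
  have hfinv : ∀ σ v, f (actLin E σ v) = f v := fun σ v => by
    show ∑ h : H, _ = ∑ h : H, _
    rw [← Equiv.sum_comp (Equiv.mulRight (⟨rho E σ, σ, rfl⟩ : H))
      (fun h : H => f₀ ((h.1 : Matrix (Fin n) (Fin n) ℤ).mulVec v))]
    refine Finset.sum_congr rfl fun h _ => ?_
    rw [← rho_mulVec, Matrix.mulVec_mulVec]
    rfl
  refine ⟨f, fun hf => hbig ?_, hfinv⟩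
  obtain ⟨m₁, hm₁⟩ := hg
  have hgd : d ∣ orderOf g := by
    refine orderOf_dvd_of_pow_eq_one (chi_ext E fun m => ?_)
    rw [chi_pow, chi_one, ← hX, ← Units.val_pow_eq_pow_val]
    obtain ⟨k, hk⟩ := hgen' m
    rw [← hk, ← zpow_natCast, ← zpow_mul, mul_comm, zpow_mul, zpow_natCast, pow_orderOf_eq_one, one_zpow,
      Units.val_one]
  refine hgd.trans (orderOf_dvd_of_pow_eq_one ?_)
  have h0 : g ^ f (Multiplicative.toAdd m₁.down) = 1 := by rw [hf]; exact zpow_zero g
  rw [show f (Multiplicative.toAdd m₁.down) = ∑ h : H, f₀ ((h.1 : Matrix (Fin n) (Fin n) ℤ).mulVec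
    (Multiplicative.toAdd m₁.down)) from rfl, hzsum] at h0
  rw [Finset.prod_congr rfl fun h _ => (show g ^ f₀ ((h.1 : Matrix (Fin n) (Fin n) ℤ).mulVec
      (Multiplicative.toAdd m₁.down)) = g by
    obtain ⟨σ, hσ⟩ := h.2
    rw [hf₀, ← hσ, rho_mulVec]
    exact (hinv σ m₁).trans hm₁), Finset.prod_const, Finset.card_univ, ← Nat.card_eq_fintype_card] at h0
  exact h0

/-- The order of a point of a torus is prime to the characteristic. -/
theorem orderOf_ne_zero (x : WithConv (A →ₐ[K] K)) (hx : IsOfFinOrder x)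
    (E : L ⊗[K] A ≃ₐc[L] MonoidAlgebra L (Lat.{u} n)) : ((orderOf x : ℕ) : K) ≠ 0 := by
  intro h
  have hK : (ringChar K) ∣ orderOf x := (ringChar.spec K _).1 h
  set p := ringChar K
  have hp0 : p ≠ 0 := fun h0 => by
    rw [h0, zero_dvd_iff] at hK
    exact absurd hK hx.orderOf_pos.ne'
  haveI : Fact p.Prime := ⟨(CharP.char_is_prime_or_zero K p).resolve_right hp0⟩
  haveI : CharP L p := charP_of_injective_algebraMap (algebraMap K L).injective p
  obtain ⟨q, hq⟩ := hK
  have hy : x ^ q = 1 := chi_ext E fun m => by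
    have h1 : chi E x m ^ (p * q) = 1 := by rw [← chi_pow, ← hq, pow_orderOf_eq_one, chi_one]
    rw [chi_pow, chi_one]
    rw [mul_comm, pow_mul] at h1
    have h2 : (chi E x m ^ q - 1) ^ p = 0 := by rw [sub_pow_char, h1, one_pow, sub_self]
    exact sub_eq_zero.1 (eq_zero_of_pow_eq_zero h2)
  have hq0 : 0 < q := Nat.pos_of_ne_zero fun h0 => by
    rw [h0, mul_zero] at hq; exact absurd hq hx.orderOf_pos.ne'
  have := Nat.le_of_dvd hq0 (orderOf_dvd_of_pow_eq_one hy)
  rw [hq] at this
  have h2 := (Fact.out : p.Prime).two_le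
  nlinarith

/-- An invariant surjective functional gives a surjective bialgebra map to the Laurent polynomials. -/
theorem exists_bialgHom_surjective [IsGalois K L] [FiniteDimensional K L] (f : (Fin n → ℤ) →+ ℤ)
    (hsurj : Function.Surjective f) (hf : ∀ σ v, f (actLin E σ v) = f v) :
    ∃ φ : A →ₐc[K] MonoidAlgebra K (Multiplicative ℤ), Function.Surjective φ := by
  classical
  let fM : Lat.{u} n →* Multiplicative ℤ :=
    (AddMonoidHom.toMultiplicative f).comp (MulEquiv.ulift : Lat.{u} n ≃* Multiplicative (Fin n → ℤ)).toMonoidHom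
  have hfM : ∀ σ m, fM (act E σ m) = fM m := fun σ m => congrArg Multiplicative.ofAdd (hf σ _)
  let D : MonoidAlgebra L (Lat.{u} n) →ₐc[L] MonoidAlgebra L (Multiplicative ℤ) := mapDomainBialgHom L fM
  let Φ : L ⊗[K] A →ₐc[L] MonoidAlgebra L (Multiplicative ℤ) :=
    D.comp (E : L ⊗[K] A →ₐc[L] MonoidAlgebra L (Lat.{u} n))
  have hΦgl : ∀ m, Φ (gl E m).val = single (fM m) 1 := fun m => by
    show D (E (E.symm (single m 1))) = _
    rw [BialgEquiv.apply_symm_apply, mapDomainBialgHom_single]
  let s : ∀ σ : L ≃ₐ[K] L, MonoidAlgebra L (Multiplicative ℤ) →+* MonoidAlgebra L (Multiplicative ℤ) :=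
    fun σ => mapRingHom _ σ.toAlgHom.toRingHom
  have hs : ∀ σ g (c : L), s σ (single g c) = single g (σ c) := fun σ g c => by simp [s]
  have hequiv : ∀ σ z, s σ (Φ z) = Φ (Algebra.TensorProduct.map σ.toAlgHom (AlgHom.id K A) z) := by
    intro σ z
    obtain ⟨w, rfl⟩ : ∃ w, E.symm w = z := ⟨E z, E.symm_apply_apply z⟩
    induction w using MonoidAlgebra.induction_linear with
    | zero => simp only [map_zero]
    | add a b ha hb => simp only [map_add, ha, hb]
    | single m c =>
      have h1 : E.symm (single m c) = algebraMap L (L ⊗[K] A) c * (gl E m).val := by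
        show _ = _ * E.symm (single m 1)
        rw [← Algebra.smul_def, ← map_smul, smul_single, smul_eq_mul, mul_one]
      have h2 : Algebra.TensorProduct.map σ.toAlgHom (AlgHom.id K A) (algebraMap L (L ⊗[K] A) c) =
          algebraMap L (L ⊗[K] A) (σ c) := by
        simp [Algebra.TensorProduct.algebraMap_apply]
      have h3 : ∀ c : L, Φ (algebraMap L (L ⊗[K] A) c) = algebraMap L _ c := fun c => AlgHomClass.commutes Φ c
      rw [h1, map_mul, map_mul, map_mul, map_mul, ← gl_act, h2, h3, h3, hΦgl, hΦgl, hfM]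
      simp [hs, MonoidAlgebra.algebraMap_def]
  let ι : MonoidAlgebra K (Multiplicative ℤ) →+* MonoidAlgebra L (Multiplicative ℤ) :=
    mapRingHom _ (algebraMap K L)
  have hιc : ∀ w g, (ι w).coeff g = algebraMap K L (w.coeff g) := fun w g => by simp [ι]
  have hι : Function.Injective ι := fun a b h => MonoidAlgebra.ext (Finsupp.ext fun g =>
    (algebraMap K L).injective (by rw [← hιc, h, hιc]))
  have hex : ∀ a : A, ∃ w, ι w = Φ ((1 : L) ⊗ₜ[K] a) := by
    intro a
    have hc : ∀ g, (Φ ((1 : L) ⊗ₜ[K] a)).coeff g ∈ Set.range (algebraMap K L) := fun g => by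
      refine IsGalois.mem_range_algebraMap_iff_fixed _ |>.2 fun σ => ?_
      have h1 := hequiv σ ((1 : L) ⊗ₜ[K] a)
      rw [Algebra.TensorProduct.map_tmul, map_one, AlgHom.id_apply] at h1
      have h2 := congrArg (fun w => MonoidAlgebra.coeff w g) h1
      simpa [s] using h2
    choose c hc using hc
    refine ⟨MonoidAlgebra.ofCoeff (Finsupp.onFinset (Φ ((1 : L) ⊗ₜ[K] a)).coeff.support c fun g hg => ?_), ?_⟩
    · rw [Finsupp.mem_support_iff, ← hc g]
      exact fun h => hg ((algebraMap K L).injective (h.trans (map_zero _).symm))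
    · refine MonoidAlgebra.ext (Finsupp.ext fun g => ?_)
      rw [hιc]; exact hc g
  choose φ₀ hφ₀ using hex
  let φ₁ : A →ₐ[K] MonoidAlgebra K (Multiplicative ℤ) :=
    { toFun := φ₀
      map_one' := hι (by rw [hφ₀, map_one, ← Algebra.TensorProduct.one_def, map_one])
      map_mul' := fun a b => hι (by
        rw [hφ₀, map_mul, hφ₀, hφ₀, ← map_mul, Algebra.TensorProduct.tmul_mul_tmul, one_mul])
      map_zero' := hι (by rw [hφ₀, map_zero, tmul_zero, map_zero])
      map_add' := fun a b => hι (by rw [hφ₀, map_add, hφ₀, hφ₀, ← map_add, tmul_add])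
      commutes' := fun r => hι (by
        rw [hφ₀, ← Algebra.TensorProduct.algebraMap_apply', IsScalarTower.algebraMap_apply K L (L ⊗[K] A),
          AlgHomClass.commutes]
        simp [ι, MonoidAlgebra.algebraMap_def]) }
  have hφ₁ : ∀ a, ι (φ₁ a) = Φ ((1 : L) ⊗ₜ[K] a) := hφ₀
  -- the comultiplication
  let ι₂ : MonoidAlgebra K (Multiplicative ℤ) ⊗[K] MonoidAlgebra K (Multiplicative ℤ) →ₗ[K]
      MonoidAlgebra L (Multiplicative ℤ) ⊗[L] MonoidAlgebra L (Multiplicative ℤ) :=
    TensorProduct.mapOfCompatibleSMul L K K _ _ ∘ₗ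
      TensorProduct.map (MonoidAlgebra.mapAlgHom (Multiplicative ℤ) (Algebra.ofId K L)).toLinearMap
        (MonoidAlgebra.mapAlgHom (Multiplicative ℤ) (Algebra.ofId K L)).toLinearMap
  have hιe : ∀ v, MonoidAlgebra.mapAlgHom (Multiplicative ℤ) (Algebra.ofId K L) v = ι v := fun v =>
    MonoidAlgebra.ext (Finsupp.ext fun g => by simp [hιc, MonoidAlgebra.coeff_mapAlgHom])
  have hι₂t : ∀ v w, ι₂ (v ⊗ₜ[K] w) = ι v ⊗ₜ[L] ι w := fun v w => by simp [ι₂, hιe]
  have hι₂c : ∀ w, ι₂ (Coalgebra.comul (R := K) w) = Coalgebra.comul (R := L) (ι w) := by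
    intro w
    induction w using MonoidAlgebra.induction_linear with
    | zero => simp
    | add a b ha hb => simp only [map_add, ha, hb]
    | single g c =>
      rw [MonoidAlgebra.comul_single]
      simp [hι₂t, ι]
  have hι₂ : Function.Injective ι₂ := by
    let r : L →ₗ[K] K := Classical.choose
      (LinearMap.exists_leftInverse_of_injective (Algebra.linearMap K L)
        (LinearMap.ker_eq_bot.2 (algebraMap K L).injective))
    have hr : ∀ c, r (algebraMap K L c) = c := fun c => DFunLike.congr_fun (Classical.choose_spec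
      (LinearMap.exists_leftInverse_of_injective (Algebra.linearMap K L)
        (LinearMap.ker_eq_bot.2 (algebraMap K L).injective))) c
    let bK := MonoidAlgebra.basis (Multiplicative ℤ) K
    let bL := MonoidAlgebra.basis (Multiplicative ℤ) L
    intro v w h
    refine (bK.tensorProduct bK).ext_elem fun ⟨g, g'⟩ => ?_
    have key : ∀ z, (bL.tensorProduct bL).repr (ι₂ z) (g, g') =
        algebraMap K L ((bK.tensorProduct bK).repr z (g, g')) := by
      intro z
      induction z using TensorProduct.induction_on with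
      | zero => simp
      | tmul p q =>
        have hb : ∀ (v : MonoidAlgebra K (Multiplicative ℤ)) k, bL.repr (ι v) k = algebraMap K L (bK.repr v k) :=
          fun v k => hιc v k
        simp [hι₂t, hb, mul_comm]
      | add p q hp hq => simp only [map_add, Finsupp.add_apply, hp, hq]
    exact (algebraMap K L).injective (by rw [← key, ← key, h])
  let φ : A →ₐc[K] MonoidAlgebra K (Multiplicative ℤ) := BialgHom.ofAlgHom φ₁
    (AlgHom.ext fun a => (algebraMap K L).injective (by
      have h1 : Coalgebra.counit (R := L) (Φ ((1 : L) ⊗ₜ[K] a)) = Coalgebra.counit (R := L) ((1 : L) ⊗ₜ[K] a) :=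
        CoalgHomClass.counit_comp_apply Φ _
      have h2 : Coalgebra.counit (R := L) ((1 : L) ⊗ₜ[K] a) = algebraMap K L (Coalgebra.counit (R := K) a) := by
        simp [Algebra.algebraMap_eq_smul_one]
      have h3 : ∀ w, Coalgebra.counit (R := L) (ι w) = algebraMap K L (Coalgebra.counit (R := K) w) := fun w => by
        induction w using MonoidAlgebra.induction_linear with
        | zero => simp
        | add p q hp hq => simp only [map_add, hp, hq]
        | single g c => simp [ι]
      show algebraMap K L (Coalgebra.counit (R := K) (φ₁ a)) = algebraMap K L (Coalgebra.counit (R := K) a)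
      rw [← h3, hφ₁, h1, h2]))
    (AlgHom.ext fun a => hι₂ (by
      show ι₂ (TensorProduct.map φ₁.toLinearMap φ₁.toLinearMap (Coalgebra.comul (R := K) a)) =
        ι₂ (Coalgebra.comul (R := K) (φ₁ a))
      rw [hι₂c, hφ₁, ← CoalgHomClass.map_comp_comul_apply Φ, MultTypeLib.comul_one_tmul]
      generalize Coalgebra.comul (R := K) a = w
      induction w using TensorProduct.induction_on with
      | zero => simp
      | tmul p q => simp [hι₂t, hφ₁, MultTypeLib.inclTwo_tmul]
      | add p q hp hq => simp only [map_add, hp, hq]))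
  refine ⟨φ, fun w => ?_⟩
  -- surjectivity through a retraction of the coefficients
  obtain ⟨r, hr⟩ := LinearMap.exists_leftInverse_of_injective (Algebra.linearMap K L)
    (LinearMap.ker_eq_bot.2 (algebraMap K L).injective)
  have hΦs : Function.Surjective Φ := fun v => by
    suffices h : ∃ v', D v' = v by
      obtain ⟨v', hv'⟩ := h
      exact ⟨E.symm v', by
        show D (E (E.symm v')) = v
        rw [BialgEquiv.apply_symm_apply]; exact hv'⟩
    induction v using MonoidAlgebra.induction_linear with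
    | zero => exact ⟨0, map_zero D⟩
    | add p q hp hq =>
      obtain ⟨p', hp'⟩ := hp
      obtain ⟨q', hq'⟩ := hq
      exact ⟨p' + q', by rw [map_add, hp', hq']⟩
    | single g c =>
      obtain ⟨x, hx⟩ := hsurj (Multiplicative.toAdd g)
      refine ⟨single ⟨Multiplicative.ofAdd x⟩ c, ?_⟩
      rw [mapDomainBialgHom_single]
      exact congrArg (single · c) (congrArg Multiplicative.ofAdd hx)
  let R₀ : MonoidAlgebra L (Multiplicative ℤ) → MonoidAlgebra K (Multiplicative ℤ) :=
    fun v => MonoidAlgebra.ofCoeff (v.coeff.mapRange r (map_zero r))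
  have hR0 : ∀ v g, (R₀ v).coeff g = r (v.coeff g) := fun v g => by simp [R₀]
  have hall : ∀ z, ∃ a, φ₁ a = R₀ (Φ z) := by
    intro z
    induction z using TensorProduct.induction_on with
    | zero => exact ⟨0, MonoidAlgebra.ext (Finsupp.ext fun g => by simp [hR0])⟩
    | tmul c a =>
      refine ⟨r c • a, MonoidAlgebra.ext (Finsupp.ext fun g => ?_)⟩
      rw [map_smul, MonoidAlgebra.coeff_smul, Finsupp.smul_apply, hR0, show c ⊗ₜ[K] a = c • ((1 : L) ⊗ₜ[K] a) by
        rw [TensorProduct.smul_tmul', smul_eq_mul, mul_one], map_smul, ← hφ₁, MonoidAlgebra.coeff_smul,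
        Finsupp.smul_apply, hιc, smul_eq_mul, smul_eq_mul, mul_comm c, ← Algebra.smul_def, map_smul, smul_eq_mul,
        mul_comm]
    | add p q hp hq =>
      obtain ⟨a, ha⟩ := hp
      obtain ⟨b, hb⟩ := hq
      exact ⟨a + b, MonoidAlgebra.ext (Finsupp.ext fun g => by simp [map_add, ha, hb, hR0])⟩
  obtain ⟨z, hz⟩ := hΦs (ι w)
  obtain ⟨a, ha⟩ := hall z
  refine ⟨a, ha.trans (MonoidAlgebra.ext (Finsupp.ext fun g => ?_))⟩
  rw [hR0, hz, hιc]
  exact DFunLike.congr_fun hr _

end Groth.Agent.TorusField29
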