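import Mathlib

/-!
# Elements of finite order in `SL₂(ℤ)`
-/

set_option autoImplicit false

namespace Groth.Agent.TorusField29

open Matrix

/-- A two by two integral matrix of determinant one and finite order, other than the identity, has trace
between `-2` and `1`. -/
theorem trace_mem_of_pow_eq_one (g : Matrix (Fin 2) (Fin 2) ℤ) (hdet : g.det = 1) {N : ℕ} (hN : 0 < N)
    (hg : g ^ N = 1) (hne : g ≠ 1) : -2 ≤ g.trace ∧ g.trace ≤ 1 := by
  by_contra hcon
  set t := g.trace with ht
  have htbig : 2 ≤ |t| := by
    rcases not_and_or.1 hcon with h | h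
    · rw [abs_of_neg (by omega)]; omega
    · rw [abs_of_pos (by omega)]; omega
  have hsq : g * g = t • g - 1 := by
    ext i j
    rw [Matrix.det_fin_two] at hdet
    simp only [Matrix.mul_apply, Fin.sum_univ_two, Matrix.sub_apply, Matrix.smul_apply, smul_eq_mul, ht,
      Matrix.trace_fin_two]
    fin_cases i <;> fin_cases j <;> simp <;> linarith
  have key : ∀ k : ℕ, ∃ a b : ℤ, g ^ (k + 1) = a • g - b • (1 : Matrix (Fin 2) (Fin 2) ℤ) ∧ |b| < |a| := by
    intro k
    induction k with
    | zero => exact ⟨1, 0, by simp, by simp⟩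
    | succ k ih =>
      obtain ⟨a, b, hab, hlt⟩ := ih
      refine ⟨a * t - b, a, ?_, ?_⟩
      · rw [pow_succ, hab, sub_mul, smul_mul_assoc, hsq, smul_mul_assoc, one_mul, smul_sub, smul_smul, sub_smul]
        abel
      · have h1 : |a * t| - |b| ≤ |a * t - b| := abs_sub_abs_le_abs_sub _ _
        rw [abs_mul] at h1
        nlinarith [abs_nonneg a, abs_nonneg b]
  obtain ⟨a, b, hab, hlt⟩ := key (N - 1)
  rw [Nat.sub_add_cancel hN, hg] at hab
  have ha : a ≠ 0 := by
    intro h
    rw [h, abs_zero] at hlt
    exact absurd hlt (not_lt.2 (abs_nonneg b))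
  have h01 : g 0 1 = 0 := by
    have := congrFun (congrFun hab 0) 1
    simp only [Matrix.sub_apply, Matrix.smul_apply, smul_eq_mul] at this
    rw [Matrix.one_apply_ne (by decide), mul_zero, sub_zero] at this
    exact (mul_eq_zero.1 this.symm).resolve_left ha
  have h10 : g 1 0 = 0 := by
    have := congrFun (congrFun hab 1) 0
    simp only [Matrix.sub_apply, Matrix.smul_apply, smul_eq_mul] at this
    rw [Matrix.one_apply_ne (by decide), mul_zero, sub_zero] at this
    exact (mul_eq_zero.1 this.symm).resolve_left ha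
  have h00 : g 0 0 = g 1 1 := by
    have h1 := congrFun (congrFun hab 0) 0
    have h2 := congrFun (congrFun hab 1) 1
    simp only [Matrix.sub_apply, Matrix.smul_apply, smul_eq_mul, Matrix.one_apply_eq] at h1 h2
    exact mul_left_cancel₀ ha (by linarith)
  rw [Matrix.det_fin_two, h01, h10, ← h00] at hdet
  have ht2 : t = 2 * g 0 0 := by rw [ht, Matrix.trace_fin_two, ← h00]; ring
  rcases Int.eq_one_or_neg_one_of_mul_eq_one (show g 0 0 * g 0 0 = 1 by linarith) with h | h
  · refine hne ?_
    ext i j
    fin_cases i <;> fin_cases j <;> simp [h01, h10, h, ← h00]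
  · rw [h] at ht2
    omega

end Groth.Agent.TorusField29
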