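import Groth.Agent.Lib.TorusField29.Galois
import Groth.Agent.Lib.TorusField29.GL2
import Groth.Agent.Lib.TorPts21.Split
import Groth.Agent.Lib.MTRigid29.LiftHom

/-!
# Rational points of finite order and cocharacters of tori over fields
-/

set_option autoImplicit false
set_option linter.style.haveILetI false
set_option backward.isDefEq.respectTransparency.types false
set_option maxSynthPendingDepth 3

universe u

open CategoryTheory Limits MonoidalCategory CartesianMonoidalCategory MonObj AlgebraicGeometry Opposite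
open scoped TensorProduct
open WithConv Polynomial
open Groth.Agent.DiagGL

noncomputable section

namespace Groth.Agent.TorusField29

variable {K : Type u} [Field K] {n : ℕ}

/-- A torus over a field: coordinate Hopf algebra, split by a finite Galois extension. -/
structure Data (T : Over (Spec (CommRingCat.of K))) [GrpObj T] (n : ℕ) where
  A : Type u
  [ring : CommRing A]
  [hopf : HopfAlgebra K A]
  L : Type u
  [fieldL : Field L]
  [algL : Algebra K L]
  [galois : IsGalois K L]
  [fin : FiniteDimensional K L]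
  E : L ⊗[K] A ≃ₐc[L] MonoidAlgebra L (Lat.{u} n)
  e : Grp.mk (CoactBr.sp K A) ≅ Grp.mk T

attribute [instance] Data.ring Data.hopf Data.fieldL Data.algL Data.galois Data.fin

theorem nonempty_data {T : Over (Spec (CommRingCat.of K))} [GrpObj T]
    (hT : ∃ (L : Type u) (_ : Field L) (_ : Algebra K L),
      Red.IsSplitTorusWith (Fin n → ℤ) (Red.bc (Spec.map (CommRingCat.ofHom (algebraMap K L))) T)) :
    Nonempty (Data T n) := by
  obtain ⟨L₀, _, _, ⟨iso⟩⟩ := hT
  let q : Spec (CommRingCat.of L₀) ⟶ Spec (CommRingCat.of K) := Spec.map (CommRingCat.ofHom (algebraMap K L₀))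
  have hfl : Flat q := (HasRingHomProperty.Spec_iff (P := @Flat)).2
    (RingHom.flat_algebraMap_iff.2 inferInstance)
  have hsurj : Surjective q := ⟨fun x => ⟨IsLocalRing.closedPoint L₀, Subsingleton.elim _ _⟩⟩
  let C := (charsDS (Spec (CommRingCat.of L₀)) (Fin n → ℤ)).transport iso
  have hft : SGA3x.IsMultTypeFT T := by
    refine ⟨_, q, hfl, hsurj, fun V hV => ⟨q ⁻¹ᵁ V, (hV.preimage q).isCompact,
      Set.image_preimage_eq _ q.surjective⟩, fun s =>
      ⟨⊤, trivial, Fin n → ℤ, inferInstance, AddGroup.fg_iff_addMonoid_fg.2 inferInstance, ?_⟩⟩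
    exact MTRigid29.nonempty_grpIso_of_chars
      (MultAct19.charsComp _ _ (C.baseChange _ _)) (charsDS _ _)
  obtain ⟨A, _, _, -, -, ⟨e⟩⟩ := MTRigid29.exists_model_affine (MTRigid29.isMT_of_ft hft)
  obtain ⟨E₀⟩ := MTRigid29.nonempty_bialgEquiv e C
  obtain ⟨L, _, _, _, _, ⟨E⟩⟩ := exists_galois_split (n := n)
    (E₀.trans (MonoidAlgebra.domCongrBialgEquiv L₀ L₀ MulEquiv.ulift.symm))
  exact ⟨⟨A, L, E, e⟩⟩

variable {T : Over (Spec (CommRingCat.of K))} [GrpObj T] (D : Data T n)

/-- The unit object as a spectrum. -/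
def unitIso : 𝟙_ (Over (Spec (CommRingCat.of K))) ≅ CoactBr.sp K K :=
  Over.isoMk (Iso.refl _) (by
    show 𝟙 _ ≫ Spec.map (CommRingCat.ofHom (algebraMap K K)) = 𝟙 _
    rw [Category.id_comp, ← Spec.map_id]
    rfl)

/-- Rational points as algebra maps. -/
def ptsEquiv : WithConv (D.A →ₐ[K] K) ≃* (𝟙_ (Over (Spec (CommRingCat.of K))) ⟶ T) :=
  MulEquiv.mk
    ((MTRigid29.ptEquiv D.A K).toEquiv.trans
      { toFun := fun f => unitIso.hom ≫ f ≫ D.e.hom.hom.hom
        invFun := fun x => unitIso.inv ≫ x ≫ D.e.inv.hom.hom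
        left_inv := fun f => by
          simp only [Category.assoc, Iso.inv_hom_id_assoc]
          rw [← Mon.comp_hom', ← Grp.comp', D.e.hom_inv_id]
          exact Category.comp_id _
        right_inv := fun x => by
          simp only [Category.assoc, Iso.hom_inv_id_assoc]
          rw [← Mon.comp_hom', ← Grp.comp', D.e.inv_hom_id]
          exact Category.comp_id _ })
    (fun a b => by
      haveI : IsMonHom D.e.hom.hom.hom := D.e.hom.hom.isMonHom_hom
      show unitIso.hom ≫ MTRigid29.ptEquiv D.A K (a * b) ≫ D.e.hom.hom.hom = _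
      rw [map_mul, MonObj.mul_comp, MonObj.comp_mul]
      rfl)

theorem orderOf_ptsEquiv (f : WithConv (D.A →ₐ[K] K)) : orderOf (ptsEquiv D f) = orderOf f :=
  orderOf_injective (ptsEquiv D).toMonoidHom (ptsEquiv D).injective f

theorem orderOf_pts_ne_zero (f : WithConv (D.A →ₐ[K] K)) (hf : IsOfFinOrder f) :
    ((orderOf f : ℕ) : K) ≠ 0 :=
  orderOf_ne_zero f hf D.E

/-- A nonzero invariant functional gives a copy of `𝔾ₘ`. -/
theorem exists_mono_Gm (f : (Fin n → ℤ) →+ ℤ) (hf0 : f ≠ 0) (hf : ∀ σ v, f (actLin D.E σ v) = f v) :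
    ∃ i : Red.Gm (Spec (CommRingCat.of K)) ⟶ T, IsMonHom i ∧ Mono i := by
  obtain ⟨c, hc⟩ := Int.subgroup_cyclic f.range
  have hmem : ∀ v, ∃ k : ℤ, k * c = f v := fun v => by
    have : f v ∈ AddSubgroup.closure ({c} : Set ℤ) := hc ▸ ⟨v, rfl⟩
    obtain ⟨k, hk⟩ := AddSubgroup.mem_closure_singleton.1 this
    exact ⟨k, by rw [← hk, smul_eq_mul]⟩
  have hc0 : c ≠ 0 := fun h => hf0 (AddMonoidHom.ext fun v => by
    obtain ⟨k, hk⟩ := hmem v
    rw [← hk, h, MulZeroClass.mul_zero]
    rfl)
  choose k hk using hmem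
  let f₁ : (Fin n → ℤ) →+ ℤ := AddMonoidHom.mk' k fun a b =>
    mul_right_cancel₀ hc0 (by rw [_root_.add_mul, hk, hk, hk, map_add])
  have hs : Function.Surjective f₁ := by
    obtain ⟨v, hv⟩ : c ∈ f.range := hc ▸ AddSubgroup.subset_closure rfl
    have hv1 : k v = 1 := mul_right_cancel₀ hc0 (by rw [hk, hv, _root_.one_mul])
    exact fun z => ⟨z • v, by rw [map_zsmul]; show z • k v = z; rw [hv1]; simp⟩
  obtain ⟨φ, hφ⟩ := exists_bialgHom_surjective D.E f₁ hs fun σ v =>
    mul_right_cancel₀ hc0 (by show k _ * c = k v * c; rw [hk, hk, hf])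
  let C := TorPts21.charsOfBialg (R := K) (M := ℤ) (A := MonoidAlgebra K (Multiplicative ℤ)) (BialgEquiv.refl K _)
  obtain ⟨θ⟩ := MTRigid29.nonempty_grpIso_of_chars (charsDS (Spec (CommRingCat.of K)) ℤ) C
  refine ⟨MTRigid29.ofBialg θ.symm D.e φ, inferInstance, ?_⟩
  haveI : Mono (CoactBr.pt (φ : D.A →ₐ[K] MonoidAlgebra K (Multiplicative ℤ))) := by
    haveI : IsClosedImmersion (CoactBr.pt (φ : D.A →ₐ[K] MonoidAlgebra K (Multiplicative ℤ))).left :=
      IsClosedImmersion.spec_of_surjective _ hφ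
    exact Over.mono_of_mono_left _
  haveI : IsIso θ.symm.inv.hom.hom := (inferInstance : IsIso ((Grp.forget _).map θ.symm.inv))
  haveI : IsIso D.e.hom.hom.hom := (inferInstance : IsIso ((Grp.forget _).map D.e.hom))
  unfold MTRigid29.ofBialg
  infer_instance

/-- In an anisotropic torus no functional on the lattice is invariant. -/
theorem no_invariant (haniso : ∀ i : Red.Gm (Spec (CommRingCat.of K)) ⟶ T, IsMonHom i → Mono i → False)
    (f : (Fin n → ℤ) →+ ℤ) (hf : ∀ σ v, f (actLin D.E σ v) = f v) : f = 0 := by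
  by_contra h
  obtain ⟨i, hi, hi'⟩ := exists_mono_Gm D f h hf
  exact haniso i hi hi'

/-- Roots of unity in an extension come from a field containing all of them. -/
theorem mem_range_of_pow_eq_one {L : Type u} [Field L] [Algebra K L] {d : ℕ} (hd : 0 < d)
    (hK : (X ^ d - 1 : K[X]).Splits) {z : L} (hz : z ^ d = 1) : z ∈ Set.range (algebraMap K L) := by
  have hne : (X ^ d - 1 : K[X]) ≠ 0 := (Polynomial.monic_X_pow_sub_C (1 : K) hd.ne').ne_zero
  have hroot : z ∈ ((X ^ d - 1 : K[X]).map (algebraMap K L)).roots := by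
    rw [Polynomial.mem_roots (Polynomial.map_ne_zero hne)]
    simp [hz]
  rw [hK.roots_map] at hroot
  obtain ⟨c, -, rfl⟩ := Multiset.mem_map.1 hroot
  exact ⟨c, rfl⟩

/-- Roots of unity of order a divisor of `d` come from a field with a primitive `d`-th root. -/
theorem mem_range_of_isPrimitiveRoot {L : Type u} [Field L] [Algebra K L] {d : ℕ} (hd : 0 < d) {ζ : K}
    (hζ : IsPrimitiveRoot ζ d) {z : L} (hz : z ^ d = 1) : z ∈ Set.range (algebraMap K L) := by
  haveI : NeZero d := ⟨hd.ne'⟩
  obtain ⟨i, -, rfl⟩ := (hζ.map_of_injective (algebraMap K L).injective).eq_pow_of_pow_eq_one hz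
  exact ⟨ζ ^ i, map_pow _ _ _⟩

/-- The character values of a point, additively. -/
def addChar (x : WithConv (D.A →ₐ[K] K)) : (Fin n → ℤ) →+ Additive D.Lˣ :=
  AddMonoidHom.mk' (fun v => Additive.ofMul ((chi D.E x).toHomUnits ⟨Multiplicative.ofAdd v⟩)) fun a b => by
    rw [← ofMul_mul, ← map_mul]
    rfl

theorem addChar_val (x : WithConv (D.A →ₐ[K] K)) (v : Fin n → ℤ) :
    ((Additive.toMul (addChar D x v) : D.Lˣ) : D.L) = chi D.E x ⟨Multiplicative.ofAdd v⟩ := rfl

/-- The points of bounded order form groups of bounded size. -/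
theorem card_le_pow {B : ℕ} (hB : ∀ x : WithConv (D.A →ₐ[K] K), IsOfFinOrder x → orderOf x ≤ B)
    (G : Subgroup (𝟙_ (Over (Spec (CommRingCat.of K))) ⟶ T)) (hG : Finite G) : Nat.card G ≤ B ^ n := by
  classical
  let Y : Fin n → (G →* D.Lˣ) := fun i =>
    MonoidHom.toHomUnits
      { toFun := fun x => chi D.E ((ptsEquiv D).symm x.1) ⟨Multiplicative.ofAdd (Pi.single i 1)⟩
        map_one' := by rw [Subgroup.coe_one, map_one, chi_one]
        map_mul' := fun x y => by rw [Subgroup.coe_mul, map_mul, chi_mul] }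
  haveI : ∀ i, Finite (Y i).range := fun i => Finite.of_surjective _ (Y i).rangeRestrict_surjective
  have hcard : ∀ i, Nat.card (Y i).range ≤ B := fun i => by
    haveI := subgroup_units_cyclic (Y i).range
    obtain ⟨⟨g, x, rfl⟩, hg⟩ := IsCyclic.exists_generator (α := (Y i).range)
    have hx : IsOfFinOrder x := isOfFinOrder_of_finite x
    have hx' : IsOfFinOrder ((ptsEquiv D).symm x.1) :=
      (ptsEquiv D).symm.toMonoidHom.isOfFinOrder (G.subtype.isOfFinOrder hx)
    rw [← orderOf_eq_card_of_forall_mem_zpowers hg]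
    refine le_trans ?_ (hB _ hx')
    refine Nat.le_of_dvd hx'.orderOf_pos (orderOf_dvd_of_pow_eq_one (Subtype.ext ?_))
    show Y i x ^ _ = 1
    refine Units.ext ?_
    rw [Units.val_pow_eq_pow_val, Units.val_one]
    show chi D.E _ _ ^ _ = 1
    rw [← chi_pow, pow_orderOf_eq_one, chi_one]
  let Z : G → ∀ i, (Y i).range := fun x i => ⟨Y i x, x, rfl⟩
  have hZ : Function.Injective Z := fun x y h => by
    refine Subtype.ext ((ptsEquiv D).symm.injective (chi_ext D.E fun m => ?_))
    have hφ : addChar D ((ptsEquiv D).symm x.1) = addChar D ((ptsEquiv D).symm y.1) := by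
      refine AddMonoidHom.functions_ext' (Additive D.Lˣ) _ _ fun i => AddMonoidHom.ext_int ?_
      refine Additive.toMul.injective (Units.ext ?_)
      exact congrArg (fun w : ∀ i, (Y i).range => ((w i).1 : D.L)) h
    have h2 := congrArg (fun F : (Fin n → ℤ) →+ Additive D.Lˣ =>
      ((Additive.toMul (F (Multiplicative.toAdd m.down)) : D.Lˣ) : D.L)) hφ
    simp only [addChar_val] at h2
    exact h2
  calc Nat.card G ≤ Nat.card (∀ i, (Y i).range) := Nat.card_le_card_of_injective Z hZ
    _ = ∏ i, Nat.card (Y i).range := Nat.card_pi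
    _ ≤ ∏ _i : Fin n, B := Finset.prod_le_prod' fun i _ => hcard i
    _ = B ^ n := by rw [Finset.prod_const, Finset.card_univ, Fintype.card_fin]

/-- The order of a point of an anisotropic torus divides the number of Galois substitutions of the lattice. -/
theorem orderOf_dvd_card (haniso : ∀ i : Red.Gm (Spec (CommRingCat.of K)) ⟶ T, IsMonHom i → Mono i → False)
    (hK : ∀ d : ℕ, 0 < d → (X ^ d - 1 : K[X]).Splits) (x : WithConv (D.A →ₐ[K] K)) (hx : IsOfFinOrder x) :
    orderOf x ∣ Nat.card (rho D.E).range := by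
  by_contra h
  obtain ⟨f, hf0, hf⟩ := exists_invariant_functional D.E x hx
    (fun z hz => mem_range_of_pow_eq_one hx.orderOf_pos (hK _ hx.orderOf_pos) hz) h
  exact hf0 (no_invariant D haniso f hf)

theorem finite_range : Finite (rho D.E).range :=
  Finite.of_surjective _ (rho D.E).rangeRestrict_surjective

/-- In an anisotropic torus of rank two points of finite order have order at most four. -/
theorem orderOf_le_four {T : Over (Spec (CommRingCat.of K))} [GrpObj T] (D : Data T 2)
    (haniso : ∀ i : Red.Gm (Spec (CommRingCat.of K)) ⟶ T, IsMonHom i → Mono i → False)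
    (hK : ∀ d : ℕ, 0 < d → (X ^ d - 1 : K[X]).Splits) (x : WithConv (D.A →ₐ[K] K)) (hx : IsOfFinOrder x) :
    orderOf x ≤ 4 := by
  haveI := finite_range D
  let H := (rho D.E).range
  let δ : H →* ℤˣ := (Matrix.GeneralLinearGroup.det).comp H.subtype
  by_cases hδ : Function.Injective δ
  · have h1 := Nat.card_le_card_of_injective δ hδ
    have h2 : Nat.card ℤˣ = 2 := by rw [Nat.card_eq_fintype_card]; rfl
    exact (Nat.le_of_dvd (Nat.card_pos (α := H)) (orderOf_dvd_card D haniso hK x hx)).trans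
      ((h1.trans h2.le).trans (by norm_num))
  rw [← MonoidHom.ker_eq_bot_iff, Subgroup.eq_bot_iff_forall] at hδ
  push Not at hδ
  obtain ⟨⟨_, σ, rfl⟩, hg, hne⟩ := hδ
  let g : Matrix (Fin 2) (Fin 2) ℤ := (rho D.E σ : Matrix (Fin 2) (Fin 2) ℤ)
  have hdet : g.det = 1 := congrArg Units.val (MonoidHom.mem_ker.1 hg)
  have hne' : g ≠ 1 := fun h => hne (Subtype.ext (Units.ext h))
  let N := orderOf (rho D.E σ)
  have hN : 0 < N := by
    have : IsOfFinOrder (⟨rho D.E σ, σ, rfl⟩ : H) := isOfFinOrder_of_finite _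
    exact (H.subtype.isOfFinOrder this).orderOf_pos
  have hgN : g ^ N = 1 := by
    show ((rho D.E σ : Matrix (Fin 2) (Fin 2) ℤ)) ^ N = 1
    rw [← Units.val_pow_eq_pow_val, pow_orderOf_eq_one, Units.val_one]
  obtain ⟨ht₁, ht₂⟩ := trace_mem_of_pow_eq_one g hdet hN hgN hne'
  have hdet' : (g - 1).det = 2 - g.trace := by
    rw [Matrix.det_fin_two] at hdet ⊢
    simp only [Matrix.sub_apply, Matrix.trace_fin_two, Matrix.one_apply_eq,
      Matrix.one_apply_ne (show (0 : Fin 2) ≠ 1 by decide), Matrix.one_apply_ne (show (1 : Fin 2) ≠ 0 by decide)]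
    linear_combination hdet
  -- `det (g - 1)` kills the point
  let X' : (Fin 2 → ℤ) →+ Additive D.Lˣ := addChar D x
  have hinv : ∀ v, X' (g.mulVec v) = X' v := fun v => by
    rw [rho_mulVec]
    refine Additive.toMul.injective (Units.ext ?_)
    rw [addChar_val, addChar_val]
    show chi D.E x (act D.E σ ⟨Multiplicative.ofAdd v⟩) = _
    obtain ⟨c, hc⟩ := mem_range_of_pow_eq_one (L := D.L) hx.orderOf_pos (hK _ hx.orderOf_pos)
      (z := chi D.E x ⟨Multiplicative.ofAdd v⟩) (by rw [← chi_pow, pow_orderOf_eq_one, chi_one])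
    rw [chi_act, ← hc, AlgEquiv.commutes]
  have hkill : ∀ v, (g - 1).det • X' v = 0 := fun v => by
    have h : (g - 1).mulVec ((g - 1).adjugate.mulVec v) = (g - 1).det • v := by
      rw [Matrix.mulVec_mulVec, Matrix.mul_adjugate, Matrix.smul_mulVec, Matrix.one_mulVec]
    rw [← map_zsmul, ← h, Matrix.sub_mulVec, map_sub, hinv, Matrix.one_mulVec, sub_self]
  have h5 : x ^ (g - 1).det.natAbs = 1 := chi_ext D.E fun m => by
    rw [chi_pow, chi_one]
    have h0 : (g - 1).det.natAbs • X' (Multiplicative.toAdd m.down) = 0 := by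
      rcases Int.natAbs_eq (g - 1).det with h | h
      · rw [← natCast_zsmul, ← h, hkill]
      · rw [← natCast_zsmul, show ((g - 1).det.natAbs : ℤ) = -(g - 1).det by omega, neg_smul, hkill, neg_zero]
    have h1 := congrArg (fun w : Additive D.Lˣ => ((Additive.toMul w : D.Lˣ) : D.L)) h0
    simp only [toMul_nsmul, Units.val_pow_eq_pow_val, toMul_zero, Units.val_one] at h1
    rw [addChar_val] at h1
    exact h1
  have h6 := Nat.le_of_dvd (by omega) (orderOf_dvd_of_pow_eq_one h5)
  omega

end Groth.Agent.TorusField29
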